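import Groth.Agent.Lib.DerCat.TStruct
import Mathlib.Algebra.Homology.DerivedCategory.Ext.Basic
import Mathlib.Algebra.Homology.DerivedCategory.TStructure

/-!
# Dévissage of morphisms between bounded objects
-/

set_option autoImplicit false
set_option linter.style.haveILetI false

universe w' w v u

open CategoryTheory CategoryTheory.Limits CategoryTheory.Pretriangulated DerivedCategory

namespace Groth.Agent.H56.ExtVanish

open Groth.Agent.Lib

variable {A : Type u} [Category.{v} A] [Abelian A] [HasDerivedCategory.{w} A]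
  (P : A → Prop) (hiso : ∀ {M N : A}, (M ≅ N) → P M → P N) (hzero : ∀ {M : A}, IsZero M → P M)

include hzero hiso in
lemma cohom_truncLT {X : DerivedCategory A} (h : ∀ i, P ((homologyFunctor A i).obj X)) (a i : ℤ) :
    P ((homologyFunctor A i).obj ((TStructure.t.truncLT a).obj X)) := by
  by_cases hi : i < a
  · exact hiso (@asIso _ _ _ _ _ (@DerCat.TStruct.isIso_homologyMap_mor₁ _ _ _ _ _
      (TStructure.t.triangleLTGE_distinguished a X) a
      (inferInstance : TStructure.t.IsGE ((TStructure.t.truncGE a).obj X) a) i (by lia))).symm (h i)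
  · exact hzero (@isZero_of_isLE _ _ _ _ _ (a - 1) i (by lia)
      (inferInstance : TStructure.t.IsLE ((TStructure.t.truncLT a).obj X) (a - 1)))

include hzero hiso in
lemma cohom_truncGE {X : DerivedCategory A} (h : ∀ i, P ((homologyFunctor A i).obj X)) (a i : ℤ) :
    P ((homologyFunctor A i).obj ((TStructure.t.truncGE a).obj X)) := by
  by_cases hi : a ≤ i
  · exact hiso (@asIso _ _ _ _ _ (@DerCat.TStruct.isIso_homologyMap_mor₂ _ _ _ _ _
      (TStructure.t.triangleLTGE_distinguished a X) (a - 1)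
      (inferInstance : TStructure.t.IsLE ((TStructure.t.truncLT a).obj X) (a - 1)) i (by lia))) (h i)
  · exact hzero (@isZero_of_isGE _ _ _ _ _ a i (by lia)
      (inferInstance : TStructure.t.IsGE ((TStructure.t.truncGE a).obj X) a))

include hiso in
lemma exists_single (X : DerivedCategory A) (a : ℤ) (hge : X.IsGE a) (hle : X.IsLE a)
    (h : P ((homologyFunctor A a).obj X)) :
    ∃ M, P M ∧ Nonempty (X ≅ (singleFunctor A a).obj M) := by
  obtain ⟨M, ⟨e⟩⟩ := exists_iso_singleFunctor_obj_of_isGE_of_isLE X a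
  exact ⟨M, hiso ((homologyFunctor A a).mapIso e ≪≫
    (singleFunctorCompHomologyFunctorIso A a).app M) h, ⟨e⟩⟩

include hzero hiso in
/-- Dévissage in the source. -/
theorem eq_zero_of_src (L : DerivedCategory A) (a : ℤ)
    (hL : ∀ (i : ℤ) (M : A), a ≤ i → P M → ∀ φ : (singleFunctor A i).obj M ⟶ L, φ = 0) :
    ∀ (n : ℕ) (K : DerivedCategory A), K.IsGE a → K.IsLE (a + n - 1) →
      (∀ i, P ((homologyFunctor A i).obj K)) → ∀ φ : K ⟶ L, φ = 0 := by
  intro n
  induction n with
  | zero =>
    intro K hge hle _ φ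
    have h1 : TStructure.t.IsGE K a := hge
    have h2 : TStructure.t.IsLE K (a + (0 : ℕ) - 1) := hle
    exact (TStructure.t.isZero K (a + (0 : ℕ) - 1) a (by lia)).eq_of_src _ _
  | succ n ih =>
    intro K hge hle hP φ
    let b : ℤ := a + n
    have h1 : TStructure.t.IsGE K a := hge
    have h2 : TStructure.t.IsLE K b := TStructure.t.isLE_of_le K (a + (n + 1 : ℕ) - 1) b (by lia)
    have hT := TStructure.t.triangleLTGE_distinguished b K
    obtain ⟨ψ, hψ⟩ := Triangle.yoneda_exact₂ _ hT φ
      (ih _ (inferInstance : TStructure.t.IsGE ((TStructure.t.truncLT b).obj K) a)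
        (inferInstance : TStructure.t.IsLE ((TStructure.t.truncLT b).obj K) (b - 1))
        (cohom_truncLT P hiso hzero hP b) _)
    obtain ⟨M, hM, ⟨e⟩⟩ := exists_single P hiso ((TStructure.t.truncGE b).obj K) b
      (inferInstance : TStructure.t.IsGE ((TStructure.t.truncGE b).obj K) b)
      (inferInstance : TStructure.t.IsLE ((TStructure.t.truncGE b).obj K) b)
      (cohom_truncGE P hiso hzero hP b b)
    have h0 := hL b M (by lia) hM (e.inv ≫ ψ)
    have hψ0 : ψ = 0 := (cancel_epi e.inv).1 (h0.trans comp_zero.symm)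
    rw [hψ, hψ0]
    exact comp_zero

include hzero hiso in
/-- Dévissage in the target. -/
theorem eq_zero_of_tgt (K : DerivedCategory A) (b : ℤ)
    (hK : ∀ (j : ℤ) (N : A), j < b → P N → ∀ φ : K ⟶ (singleFunctor A j).obj N, φ = 0) :
    ∀ (n : ℕ) (L : DerivedCategory A), L.IsGE (b - n) → L.IsLE (b - 1) →
      (∀ i, P ((homologyFunctor A i).obj L)) → ∀ φ : K ⟶ L, φ = 0 := by
  intro n
  induction n with
  | zero =>
    intro L hge hle _ φ
    have h1 : TStructure.t.IsGE L (b - (0 : ℕ)) := hge
    have h2 : TStructure.t.IsLE L (b - 1) := hle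
    exact (TStructure.t.isZero L (b - 1) (b - (0 : ℕ)) (by lia)).eq_of_tgt _ _
  | succ n ih =>
    intro L hge hle hP φ
    let c : ℤ := b - (n + 1 : ℕ)
    have h1 : TStructure.t.IsGE L c := hge
    have h2 : TStructure.t.IsLE L (b - 1) := hle
    have hT := TStructure.t.triangleLTGE_distinguished (c + 1) L
    have hg : TStructure.t.IsGE ((TStructure.t.truncGE (c + 1)).obj L) (b - n) := by
      have : TStructure.t.IsGE ((TStructure.t.truncGE (c + 1)).obj L) (c + 1) := inferInstance
      exact TStructure.t.isGE_of_ge _ (b - n) (c + 1) (by lia)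
    obtain ⟨ψ, hψ⟩ := Triangle.coyoneda_exact₂ _ hT φ
      (ih _ hg
        (inferInstance : TStructure.t.IsLE ((TStructure.t.truncGE (c + 1)).obj L) (b - 1))
        (cohom_truncGE P hiso hzero hP (c + 1)) _)
    obtain ⟨N, hN, ⟨e⟩⟩ := exists_single P hiso ((TStructure.t.truncLT (c + 1)).obj L) c
      (inferInstance : TStructure.t.IsGE ((TStructure.t.truncLT (c + 1)).obj L) c)
      (TStructure.t.isLE_truncLT_obj L (c + 1) c (by lia))
      (cohom_truncLT P hiso hzero hP (c + 1) c)
    have h0 := hK c N (by lia) hN (ψ ≫ e.hom)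
    have hψ0 : ψ = 0 := (cancel_mono e.hom).1 (h0.trans zero_comp.symm)
    rw [hψ, hψ0]
    exact zero_comp

include hzero hiso in
/-- If all Hom's between the shifted cohomology objects vanish, so do the morphisms. -/
theorem eq_zero_of_bounded (K L : DerivedCategory A) (a cK bL b : ℤ) (hK1 : K.IsGE a) (hK2 : K.IsLE cK)
    (hL1 : L.IsGE bL) (hL2 : L.IsLE (b - 1))
    (hKP : ∀ i, P ((homologyFunctor A i).obj K)) (hLP : ∀ i, P ((homologyFunctor A i).obj L))
    (h : ∀ (i j : ℤ) (M N : A), a ≤ i → j < b → P M → P N →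
      ∀ φ : (singleFunctor A i).obj M ⟶ (singleFunctor A j).obj N, φ = 0) (φ : K ⟶ L) : φ = 0 := by
  have h1 : TStructure.t.IsLE K cK := hK2
  have h2 : TStructure.t.IsGE L bL := hL1
  have hK3 : TStructure.t.IsLE K (a + (cK + 1 - a).toNat - 1) :=
    TStructure.t.isLE_of_le K cK _ (by lia)
  have hL3 : TStructure.t.IsGE L (b - (b - bL).toNat) :=
    TStructure.t.isGE_of_ge L _ bL (by lia)
  exact eq_zero_of_src P hiso hzero L a
    (fun i M hi hM => eq_zero_of_tgt P hiso hzero _ b (fun j N hj hN => h i j M N hi hj hM hN)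
      _ L hL3 hL2 hLP)
    _ K hK1 hK3 hKP φ

/-- Hom's between shifted objects are Ext groups. -/
theorem eq_zero_single [HasExt.{w'} A] {M N : A} {i j : ℤ} (m : ℕ) (hm : j + m = i)
    (h : Subsingleton (Abelian.Ext.{w'} M N m))
    (φ : (singleFunctor A i).obj M ⟶ (singleFunctor A j).obj N) : φ = 0 := by
  let e₁ := ((singleFunctors A).shiftIso i 0 i (by lia)).app M
  let e₂ := ((singleFunctors A).shiftIso i (-(m : ℤ)) j (by lia)).app N
  let e₃ := ((singleFunctors A).shiftIso (m : ℤ) (-(m : ℤ)) 0 (by lia)).app N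
  haveI := (Abelian.Ext.homEquiv (X := M) (Y := N) (n := m)).symm.injective.subsingleton
  have h0 : e₁.inv ≫ φ⟦i⟧' ≫ e₂.hom ≫ e₃.inv = (0 : ShiftedHom _ _ (m : ℤ)) :=
    Subsingleton.elim (α := ShiftedHom ((singleFunctor A 0).obj M) ((singleFunctor A 0).obj N) (m : ℤ)) _ _
  have h1 : φ⟦i⟧' = 0 := by
    have := (cancel_epi e₁.inv).1 (h0.trans comp_zero.symm)
    have := (cancel_mono (e₂.hom ≫ e₃.inv)).1 (this.trans zero_comp.symm)
    exact this
  exact (shiftFunctor (DerivedCategory A) i).map_injective (h1.trans ((shiftFunctor (DerivedCategory A) i).map_zero _ _).symm)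

end Groth.Agent.H56.ExtVanish
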