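import Groth.Agent.H56.ExtVanish.Devissage
import Groth.Agent.Lib.ExtShStalk.Cor
import Groth.Agent.Lib.GrothVanSupport
import Groth.Agent.Lib.SSAbs.Basic
import Groth.Agent.Lib.Regular.Serre
import Groth.Agent.Lib.RefHull.LocFree
import Groth.Agent.Lib.CohBasics.Closure
import Groth.Agent.S11919
import Groth.Agent.S10943
import Groth.Agent.S11155
import Groth.Prelude.Def_DCoh2
import Mathlib.AlgebraicGeometry.Properties

/-!
# `Ext^n(F, G) = 0` above the dimension on a regular Noetherian scheme
-/

set_option autoImplicit false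
set_option linter.style.haveILetI false

universe u

open CategoryTheory CategoryTheory.Limits AlgebraicGeometry TopologicalSpace
open scoped ZeroObject

attribute [local instance] HasDerivedCategory.standard

namespace Groth.Agent.H56.ExtVanish

open Groth.Agent.Lib

/-- A subset all of whose points have coheight at least `q` has dimension at most `dim X - q`. -/
theorem topologicalKrullDim_le_sub {X : Scheme.{u}} {S : Set X} (hS : IsClosed S) {d q : ℕ}
    (hd : topologicalKrullDim X ≤ d)
    (h : ∀ x ∈ S, (q : WithBot ℕ∞) ≤ ringKrullDim (X.presheaf.stalk x)) :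
    topologicalKrullDim S ≤ ((d - q : ℕ) : WithBot ℕ∞) := by
  letI : Preorder S := specializationPreorder _
  letI : Preorder X := specializationPreorder _
  haveI : QuasiSober S := hS.isClosedEmbedding_subtypeVal.quasiSober
  letI : PartialOrder S := specializationOrder _
  rw [topologicalKrullDim, Order.krullDim_eq_of_orderIso (irreducibleSetEquivPoints (α := S)),
    Order.krullDim]
  refine iSup_le fun p => ?_
  let g : LTSeries X := p.map (fun s : S => (s : X)) fun a b hab => by
    rw [lt_iff_le_not_ge] at hab ⊢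
    exact ⟨(subtype_specializes_iff (x := b) (y := a)).1 hab.1,
      fun h' => hab.2 ((subtype_specializes_iff (x := a) (y := b)).2 h')⟩
  have h1 : (g.length : ℕ∞) ≤ Order.height g.last := Order.length_le_height le_rfl
  have h2 : (q : ℕ∞) ≤ Order.coheight g.last := by
    have := h g.last p.last.2
    rw [ringKrullDim_stalk_eq_coheight] at this
    exact_mod_cast this
  have h3 : ((Order.height g.last + Order.coheight g.last : ℕ∞) : WithBot ℕ∞) ≤ (d : WithBot ℕ∞) := by
    refine le_trans ?_ ((Order.krullDim_eq_of_orderIso (irreducibleSetEquivPoints (α := X))).symm.trans_le hd)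
    haveI : Nonempty X := ⟨g.last⟩
    rw [Order.krullDim_eq_iSup_height_add_coheight_of_nonempty]
    exact WithBot.coe_le_coe.2 (le_iSup (fun a : X => Order.height a + Order.coheight a) g.last)
  have h4 : ((g.length + q : ℕ) : ℕ∞) ≤ (d : ℕ∞) := by
    rw [Nat.cast_add]
    exact (add_le_add h1 h2).trans (by exact_mod_cast h3)
  have h5 : g.length + q ≤ d := by exact_mod_cast h4
  have h6 : p.length ≤ d - q := by
    have : g.length = p.length := rfl
    omega
  exact_mod_cast h6

variable {X : Scheme.{u}}

theorem ringKrullDim_stalk_le_top (x : X) :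
    ringKrullDim (X.presheaf.stalk x) ≤ topologicalKrullDim X := by
  letI : Preorder X := specializationPreorder _
  rw [topologicalKrullDim, Order.krullDim_eq_of_orderIso (irreducibleSetEquivPoints (α := X)),
    ringKrullDim_stalk_eq_coheight]
  exact Order.coheight_le_krullDim x

/-- Zero modules have no cohomology. -/
theorem subsingleton_HH_of_isZero {M : X.Modules} (h : IsZero M) (i : ℕ) :
    Subsingleton (Coh.HH X M i) := by
  have h' : IsZero (Coh.toAb M) := Functor.map_isZero (SheafOfModules.toSheaf X.ringCatSheaf) h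
  refine subsingleton_of_forall_eq 0 fun x => ?_
  have h1 : x.comp (Abelian.Ext.mk₀ (𝟙 (Coh.toAb M))) (add_zero i) = x := Abelian.Ext.comp_mk₀_id x
  rw [← h1, h'.eq_of_tgt (𝟙 (Coh.toAb M)) 0, Abelian.Ext.mk₀_zero, Abelian.Ext.comp_zero]

/-- `Ext^q` over the local ring vanishes above its dimension. -/
theorem subsingleton_ext_stalk [IsNoetherian X] (hreg : ∀ x : X, IsRegularLocalRing (X.presheaf.stalk x))
    {F : X.Modules} (hF : Coh.IsCoh F) (G : X.Modules) (x : X) {q : ℕ}
    (hq : ¬ (q : WithBot ℕ∞) ≤ ringKrullDim (X.presheaf.stalk x)) :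
    Subsingleton (Abelian.Ext.{u} (ModuleCat.of (X.presheaf.stalk x) (F.presheaf.stalk x))
      (ModuleCat.of (X.presheaf.stalk x) (G.presheaf.stalk x)) q) := by
  haveI := hreg x
  haveI := RefHull.LocFree.finite_stalk hF x
  have hsf := (hreg x).spanFinrank_maximalIdeal
  have h := Regular.Serre.pdle_all (R := X.presheaf.stalk x) (F.presheaf.stalk x)
  haveI : HasProjectiveDimensionLT (ModuleCat.of (X.presheaf.stalk x) (F.presheaf.stalk x))
    ((IsLocalRing.maximalIdeal (X.presheaf.stalk x)).spanFinrank + 1) := h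
  refine HasProjectiveDimensionLT.subsingleton _
    ((IsLocalRing.maximalIdeal (X.presheaf.stalk x)).spanFinrank + 1) q ?_ _
  rw [← hsf, Nat.cast_le] at hq
  omega

theorem subsingleton_ext [IsNoetherian X] (hreg : ∀ x : X, IsRegularLocalRing (X.presheaf.stalk x))
    {d : ℕ} (hd : topologicalKrullDim X ≤ (d : WithBot ℕ∞)) {F G : X.Modules}
    (hF : Coh.IsCoh F) (hG : Coh.IsCoh G) {n : ℕ} (hn : d < n) :
    Subsingleton (Abelian.Ext.{u} F G n) := by
  haveI : ModSite.HasSheafHom (O := X.sheaf) F := ModTensor.ModSite.hasSheafHom _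
  haveI : HasInjectiveResolutions (ModSite.Mod X.sheaf) :=
    inferInstanceAs (HasInjectiveResolutions X.Modules)
  obtain ⟨E, a, hfin, -, hE⟩ := Groth.Agent.S11919.result X F G
  have hgr : ∀ p : ℤ, IsZero (SpSeq.grPiece (a.fil n) (a.anti n) p) := by
    intro p
    refine SSAbs.Basic.isZero_gr a (p, (n : ℤ) - p) n (by simp) le_rfl ?_
    obtain ⟨e⟩ := hE p ((n : ℤ) - p)
    refine IsZero.of_iso ?_ e
    split_ifs with h
    swap
    · exact isZero_zero _
    let q : ℕ := ((n : ℤ) - p).toNat
    let M : X.Modules := (ModSite.extSh (O := X.sheaf) F q).obj G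
    have hM : Coh.IsCoh M := Groth.Agent.S10943.result X F G hF hG q
    haveI : SheafOfModules.IsFiniteType (R := X.ringCatSheaf) M := hM.2
    have hsupp : ∀ x ∈ CohB1.support M, (q : WithBot ℕ∞) ≤ ringKrullDim (X.presheaf.stalk x) := by
      intro x hx
      by_contra hq
      haveI := subsingleton_ext_stalk hreg hF G x hq
      obtain ⟨φ⟩ := ExtShStalk.Cor.nonempty_stalk_equiv F hF
        (fun I hI => Groth.Agent.S11155.result I hI x) G q
      exact hx φ.toEquiv.subsingleton
    have hdim := topologicalKrullDim_le_sub (Modules.Support.isClosed_support M) hd hsupp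
    by_cases hp : d - q < p.toNat
    · haveI := GrothVanSupport.subsingleton_HH d hd M hdim p.toNat hp
      exact AddCommGrpCat.isZero_of_subsingleton _
    · have hqd : d < q := by omega
      have hz : IsZero M := Modules.Support.support_eq_empty_iff.1 (Set.eq_empty_iff_forall_notMem.2
        fun x hx => absurd ((hsupp x hx).trans (((ringKrullDim_stalk_le_top x).trans hd))) (by
          rw [Nat.cast_le]; omega))
      haveI := subsingleton_HH_of_isZero hz p.toNat
      exact AddCommGrpCat.isZero_of_subsingleton _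
  obtain ⟨⟨i, hi⟩, ⟨j, hj⟩⟩ := hfin n
  have h1 : a.fil n j = ⊤ := SSAbs.Basic.eq_top_of_isZero (a.anti n) hi fun k _ => hgr k
  have h2 : (⊥ : Subobject ((fun m : ℤ => if 0 ≤ m then AddCommGrpCat.of (Abelian.Ext.{u} F G m.toNat) else 0) n)) = ⊤ :=
    hj.symm.trans h1
  have hz : IsZero ((fun m : ℤ => if 0 ≤ m then AddCommGrpCat.of (Abelian.Ext.{u} F G m.toNat) else 0) (n : ℤ)) :=
    IsZero.of_iso ((isZero_zero _).of_iso Subobject.botCoeIsoZero)
      ((asIso (⊤ : Subobject _).arrow).symm ≪≫ eqToIso (by rw [h2]))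
  simp only [Int.natCast_nonneg, if_true, Int.toNat_natCast] at hz
  exact AddCommGrpCat.subsingleton_of_isZero hz

/-- Morphisms between bounded coherent objects vanish across a gap of length `dim X`. -/
theorem eq_zero_of_gap [IsNoetherian X] (hreg : ∀ x : X, IsRegularLocalRing (X.presheaf.stalk x))
    {d : ℕ} (hd : topologicalKrullDim X ≤ (d : WithBot ℕ∞)) (K L : DCoh.D X) (a cK bL : ℤ)
    (hK : DCoh.IsCohD K) (hL : DCoh.IsCohD L) (hK1 : DerivedCategory.IsGE K (a + d))
    (hK2 : DerivedCategory.IsLE K cK) (hL1 : DerivedCategory.IsGE L bL)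
    (hL2 : DerivedCategory.IsLE L (a - 1)) (φ : K ⟶ L) : φ = 0 := by
  refine eq_zero_of_bounded (fun M : X.Modules => Coh.IsCoh M)
    (fun e h => CohBasics.Closure.isCoh_of_iso e h) (fun {M} h => ?_) K L (a + d) cK bL a hK1 hK2
    hL1 hL2 hK hL (fun i j M N hi hj hM hN ψ => ?_) φ
  · exact CohBasics.Closure.isCoh_of_iso ((isZero_kernel_of_mono (𝟙 _)).iso h)
      (CohBasics.Closure.isCoh_kernel (𝟙 _) (hK 0) (hK 0).1)
  · exact eq_zero_single (i - j).toNat (by omega)
      (subsingleton_ext hreg hd hM hN (n := (i - j).toNat) (by omega)) ψ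

end Groth.Agent.H56.ExtVanish
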