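import Groth.Agent.H56.ExtVanish.Main

/-!
# The connecting morphism across a cohomological gap
-/

set_option autoImplicit false
set_option linter.style.haveILetI false

universe u

open CategoryTheory CategoryTheory.Limits AlgebraicGeometry

attribute [local instance] HasDerivedCategory.standard

namespace Groth.Agent.H56.ExtVanish

open Groth.Agent.Lib

variable {X : Scheme.{u}}

theorem eq_zero_of_trunc_gap [IsNoetherian X] (hreg : ∀ x : X, IsRegularLocalRing (X.presheaf.stalk x))
    {d : ℕ} (hd : topologicalKrullDim X ≤ (d : WithBot ℕ∞)) (K : DCoh.D X) (a lo hi : ℤ)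
    [hlo : DerivedCategory.IsGE K lo] [hhi : DerivedCategory.IsLE K hi]
    (hgap : ∀ i : ℤ, a < i → i < a + d → IsZero (DCoh.HD K i))
    (hlt : DCoh.IsCohD ((DerivedCategory.TStructure.t.truncLT (a + d)).obj K))
    (hge : DCoh.IsCohD ((DerivedCategory.TStructure.t.truncGE (a + d)).obj K)) :
    (DerivedCategory.TStructure.t.truncGEδLT (a + d)).app K = 0 := by
  have h0 : DerivedCategory.TStructure.t.IsGE K lo := hlo
  have h1 : DerivedCategory.TStructure.t.IsLE K hi := hhi
  let W := (DerivedCategory.TStructure.t.truncLT (a + d)).obj K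
  have hW : DerivedCategory.TStructure.t.IsLE W a := by
    refine (DerivedCategory.isLE_iff W a).2 fun i hi => ?_
    by_cases h : i < a + d
    · exact (hgap i hi h).of_iso (@asIso _ _ _ _ _ (@DerCat.TStruct.isIso_homologyMap_mor₁ _ _ _ _ _
        (DerivedCategory.TStructure.t.triangleLTGE_distinguished (a + d) K) (a + d)
        (inferInstance : DerivedCategory.TStructure.t.IsGE
          ((DerivedCategory.TStructure.t.truncGE (a + d)).obj K) (a + d)) i h))
    · exact @DerivedCategory.isZero_of_isLE _ _ _ _ _ (a + d - 1) i (by lia)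
        (inferInstance : DerivedCategory.TStructure.t.IsLE W (a + d - 1))
  have hW1 : DCoh.IsCohD (W⟦(1 : ℤ)⟧) := fun i =>
    CohBasics.Closure.isCoh_of_iso
      (((DerivedCategory.homologyFunctor X.Modules 0).shiftIso 1 i (i + 1) (by omega)).app W).symm
      (hlt (i + 1))
  exact eq_zero_of_gap hreg hd _ (W⟦(1 : ℤ)⟧) a hi (lo - 1) hge hW1
    (inferInstance : DerivedCategory.TStructure.t.IsGE
      ((DerivedCategory.TStructure.t.truncGE (a + d)).obj K) (a + d))
    (inferInstance : DerivedCategory.TStructure.t.IsLE
      ((DerivedCategory.TStructure.t.truncGE (a + d)).obj K) hi)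
    (by
      have : DerivedCategory.TStructure.t.IsGE W lo := inferInstance
      exact DerivedCategory.TStructure.t.isGE_shift W lo 1 (lo - 1))
    (DerivedCategory.TStructure.t.isLE_shift W a 1 (a - 1)) _

end Groth.Agent.H56.ExtVanish
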